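import Groth.Agent.NumTrivLib.Desc
import Groth.Agent.S2491

/-!
# Nef invertible modules and extensions of the base field
-/

set_option autoImplicit false
set_option linter.style.haveILetI false
set_option maxHeartbeats 1000000
universe u

open CategoryTheory CategoryTheory.Limits AlgebraicGeometry TopologicalSpace Opposite
open HilbPolyLib DevissLib IntMultLib IntFunLib
open KFlatLib (pb)

noncomputable section

namespace NefBcLib

variable {k : Type u} [Field k] {X : Scheme.{u}} [X.Over (Spec (CommRingCat.of k))]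
  [IsProper (X ↘ Spec (CommRingCat.of k))]

/-- Degrees of nef modules on integral curves. -/
theorem cd_nonneg {L : X.Modules} (h : Nef k L) (C : X.IdealSheafData) (hi : IsIntegral C.subscheme)
    (hC : topologicalKrullDim (C.support : Set X) = 1) : 0 ≤ cd k L C := by
  haveI := hi
  rw [eq_ptIdeal C, ← N_singleton]
  exact h _ (by rw [dim_generic_of_support C, hC, Nat.cast_one])

theorem nef_congr {L M : X.Modules} (e : L ≅ M) (h : Nef k L) : Nef k M :=
  nef_of_cd fun C hi hC => by rw [← cd_congr e]; exact cd_nonneg h C hi hC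

/-- Nefness descends along surjections of proper schemes. -/
theorem nef_descend {Y : Scheme.{u}} [Y.Over (Spec (CommRingCat.of k))] [IsProper (Y ↘ Spec (CommRingCat.of k))]
    {g : Y ⟶ X} (hg : g ≫ (X ↘ Spec (CommRingCat.of k)) = Y ↘ Spec (CommRingCat.of k)) [Surjective g]
    {L : X.Modules} (hL : PicF.IsInvertible L) (h : Nef k (pb g L)) : Nef k L := by
  intro η hη
  haveI := CurvLib.isNoetherian k (X := X)
  obtain ⟨x, hx, hxd⟩ := exists_point_over hg η (Surjective.surj η)
  rw [hη] at hxd
  have hl : ∀ A ∈ [L], PicF.IsInvertible A := by simpa using hL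
  haveI := isProper_g hg
  have hsx : topologicalKrullDim (CohB1.support (Fpt x)) ≤ (([L] : List X.Modules).length : ℕ) := by
    rw [supp_Fpt k, hxd]; rfl
  have h0 : 0 ≤ N k [pb g L] (Fpt x) := h x hxd
  rw [show [pb g L] = List.map (pb g) [L] from rfl, N_push hg hl (coh_Fpt k x) hsx] at h0
  have hc : Coh.IsCoh ((Coh.push g).obj (Fpt x)) := FormalCohLib.isCoh_push_proper g (coh_Fpt k x)
  have hs := support_push_closure hg x
  rw [hx] at hs
  have hmem : η ∈ CohB1.support ((Coh.push g).obj (Fpt x)) := hx ▸ mem_support_push hg x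
  obtain ⟨T, hT, hfin, hsum⟩ := N_sum (k := k) hl hc ⟨η, hmem⟩
    ((dim_mono hs).trans hη.le)
  have hT' : T = {η} := Finset.ext fun y => by
    rw [hT, Finset.mem_singleton]
    refine ⟨fun ⟨hy, hyd⟩ => ?_, fun hy => by subst hy; exact ⟨hmem, hη⟩⟩
    exact (eq_of_specializes_of_dim isClosed_closure hη.le hyd (subset_closure rfl)
      (specializes_iff_mem_closure.mpr (hs hy))).symm
  rw [hsum, hT', Finset.sum_singleton, nsmul_eq_mul] at h0
  have hne : (len ((Coh.push g).obj (Fpt x)) η).toNat ≠ 0 := fun h => by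
    rcases ENat.toNat_eq_zero.mp h with h | h
    · exact hmem (Module.length_eq_zero_iff.mp h)
    · exact hfin η (hT' ▸ Finset.mem_singleton_self η) h
  exact nonneg_of_mul_nonneg_right h0 (by exact_mod_cast Nat.pos_of_ne_zero hne)

/-- Twists of an ample module by all multiples being ample forces nefness. -/
theorem nef_of_ample_twists {H L : X.Modules} (hH : CohB1.IsAmple H) (hL : PicF.IsInvertible L)
    (h : ∀ m : ℕ, CohB1.IsAmple (CohB1.tensorMod (CohB1.tensorPow L m) H)) : Nef k L := by
  refine nef_of_cd fun C hi hC => ?_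
  by_contra hneg
  push Not at hneg
  have h1 := NumTrivLib.cd_pos_of_isAmple (k := k) (h ((cd k H C).toNat + 1)) hi hC
  rw [cd_tensor (AmpleThLib.tensorPow_isInvertible hL _) hH.1 hC, cd_pow hL hC] at h1
  have h2 : ((((cd k H C).toNat + 1 : ℕ) : ℤ)) * cd k L C ≤ ((((cd k H C).toNat + 1 : ℕ) : ℤ)) * (-1) :=
    mul_le_mul_of_nonneg_left (by omega) (by positivity)
  have := Int.self_le_toNat (cd k H C)
  push_cast at h1 h2
  omega

/-- All twists of an ample module by a nef one are ample. -/
theorem isAmple_twist {L H : X.Modules} (hL : PicF.IsInvertible L) (hn : Nef k L) (hH : CohB1.IsAmple H) (m : ℕ) :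
    CohB1.IsAmple (CohB1.tensorMod (CohB1.tensorPow L m) H) := by
  rcases Nat.eq_zero_or_pos m with rfl | hm
  · exact AmpleDevLib.isAmple_of_iso hH.1 (isInvertible_tensor CurvLib.isInvertible_structureModule hH.1)
      (unitLeft H).symm hH
  · have h := isAmple_nef_add hL hn hH (p := 1) hm one_pos
    exact AmpleDevLib.isAmple_of_iso h.1
      (isInvertible_tensor (AmpleThLib.tensorPow_isInvertible hL m) hH.1)
      (congrRight _ (unitLeft H)) h

section Field

variable (E : Type u) [Field E] [Algebra k E]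

attribute [local instance] HilbPolyLib.bcOver

/-- Nefness is invariant under extensions of the base field. -/
theorem nef_bc_iff {L : X.Modules} (hL : PicF.IsInvertible L) :
    Nef k L ↔ Nef E (pb (Curv2.bcFst k X E) L) := by
  haveI := CurvLib.isNoetherian k (X := X)
  obtain ⟨n, X', π, j, hj, hjb, hπ, hsurj, -⟩ := ChowLib.chow_all (X ↘ Spec (CommRingCat.of k))
  haveI := hπ
  haveI : IsProper (j ≫ CohB1.ProjSpaceOver.toBase n (Spec (CommRingCat.of k))) := by
    rw [hjb]; infer_instance
  let f := j ≫ CohB1.ProjSpaceOver.toBase n (Spec (CommRingCat.of k))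
  let U := f ⁻¹ᵁ (⊤ : (Spec (CommRingCat.of k)).Opens)
  have hamp := PnCohLib.isAmple_twist_restrict (i := j) (W := (⊤ : (Spec (CommRingCat.of k)).Opens))
    (isAffineOpen_top _)
  haveI : IsIso U.ι := by exact (inferInstance : IsIso X'.topIso.hom)
  haveI := hsurj
  let g : U.toScheme ⟶ X := U.ι ≫ π
  haveI : Surjective g := inferInstance
  letI : U.toScheme.Over (Spec (CommRingCat.of k)) := ⟨g ≫ (X ↘ Spec (CommRingCat.of k))⟩
  haveI : IsProper (U.toScheme ↘ Spec (CommRingCat.of k)) :=
    inferInstanceAs (IsProper (g ≫ (X ↘ Spec (CommRingCat.of k))))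
  have hg : g ≫ (X ↘ Spec (CommRingCat.of k)) = U.toScheme ↘ Spec (CommRingCat.of k) := rfl
  let gE : Curv2.bc k U.toScheme E ⟶ Curv2.bc k X E :=
    pullback.map _ _ _ _ g (𝟙 _) (𝟙 _) ((Category.comp_id _).trans hg.symm) (by simp)
  have hgE : gE ≫ (Curv2.bc k X E ↘ Spec (CommRingCat.of E)) = Curv2.bc k U.toScheme E ↘ Spec (CommRingCat.of E) :=
    (pullback.lift_snd _ _ _).trans (Category.comp_id _)
  have hfst : gE ≫ Curv2.bcFst k X E = Curv2.bcFst k U.toScheme E ≫ g := pullback.lift_fst _ _ _
  have hsq : IsPullback (Curv2.bcFst k U.toScheme E) gE g (Curv2.bcFst k X E) := by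
    refine IsPullback.of_bot ?_ hfst.symm (IsPullback.of_hasPullback _ _)
    rw [show gE ≫ Curv2.bcSnd k X E = Curv2.bcSnd k U.toScheme E from hgE, hg]
    exact IsPullback.of_hasPullback _ _
  haveI : Surjective gE := MorphismProperty.of_isPullback hsq inferInstance
  let c := Curv2.bcFst k U.toScheme E
  have hLU := AmpleDevLib.isInvertible_pb g hL
  have hLc := AmpleDevLib.isInvertible_pb c hLU
  have eL : pb c (pb g L) ≅ pb gE (pb (Curv2.bcFst k X E) L) :=
    (Scheme.Modules.pullbackComp _ _).app L ≪≫ (Scheme.Modules.pullbackCongr hfst.symm).app L ≪≫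
      ((Scheme.Modules.pullbackComp _ _).app L).symm
  have htw : ∀ (H : U.toScheme.Modules) (m : ℕ),
      Nonempty (CohB1.tensorMod (CohB1.tensorPow (pb c (pb g L)) m) (pb c H) ≅
        pb c (CohB1.tensorMod (CohB1.tensorPow (pb g L) m) H)) := fun H m => by
    obtain ⟨φ, -⟩ := AmpleDevLib.exists_pullPowIso c hLU m
    obtain ⟨q'⟩ := NumTrivLib.nonempty_pb_tensor c (CohB1.tensorPow (pb g L) m) H
    exact ⟨(q'.symm ≪≫ congrLeft φ _).symm⟩
  have hHc := isAmple_bc (k := k) E hamp
  constructor
  · intro h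
    refine nef_descend hgE (AmpleDevLib.isInvertible_pb _ hL) (nef_congr eL ?_)
    refine nef_of_ample_twists hHc hLc fun m => ?_
    obtain ⟨q⟩ := htw _ m
    have hh := isAmple_bc (k := k) E (isAmple_twist hLU (Nef.pullback hg hL h) hamp m)
    exact AmpleDevLib.isAmple_of_iso hh.1
      (isInvertible_tensor (AmpleThLib.tensorPow_isInvertible hLc m) hHc.1) q.symm hh
  · intro h
    refine nef_descend hg hL ?_
    have hc : Nef E (pb c (pb g L)) :=
      nef_congr eL.symm (Nef.pullback hgE (AmpleDevLib.isInvertible_pb _ hL) h)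
    refine nef_of_ample_twists hamp hLU fun m => ?_
    obtain ⟨q⟩ := htw _ m
    have hh := isAmple_twist hLc hc hHc m
    have hM := isInvertible_tensor (AmpleThLib.tensorPow_isInvertible hLU m) hamp.1
    haveI : Flat (Spec.map (CommRingCat.ofHom (algebraMap k E))) := by
      rw [HasRingHomProperty.Spec_iff (P := @Flat)]
      exact RingHom.flat_algebraMap_iff.mpr inferInstance
    haveI : Surjective (Spec.map (CommRingCat.ofHom (algebraMap k E))) := ⟨fun x => ⟨default, Subsingleton.elim _ _⟩⟩
    exact Groth.Agent.S2491.result (U.toScheme ↘ Spec (CommRingCat.of k))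
      (Spec.map (CommRingCat.ofHom (algebraMap k E))) _ hM
      (AmpleDevLib.isAmple_of_iso hh.1 (AmpleDevLib.isInvertible_pb c hM) q hh)

end Field

end NefBcLib

end
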